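import Cfsg.Agent.Lib.KleinBlock.Count
import Cfsg.Agent.Lib.Characters.Linear
import Cfsg.Agent.Lib.Characters.Indicator
import Cfsg.Agent.Lib.Brauer.OddIndicator

/-!
# The order formula for a fused Klein four Sylow subgroup
-/

set_option autoImplicit false
set_option linter.unusedSectionVars false
set_option linter.style.haveILetI false

namespace Cfsg.Agent.Lib.KleinBlock

open Cfsg.Agent.Lib.Blocks Cfsg.Agent.Lib.Characters.Basic Cfsg.Agent.Lib.FpfBlock.Setting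
open Cfsg.Agent.Lib.Induced.Basic (natCard_ne_zero)
open Cfsg.Agent.Lib.Involutions.Basic
open scoped ComplexConjugate

universe u

variable {G : Type u} [Group G] [Finite G]

/-- The situation of the order formula. -/
structure Data (M : Ideal Cfsg.AlgInt) (P : Sylow 2 G) (n J : G)
    (χ₁ χ₂ χ₃ : Cfsg.IrrCharacter G) (ε₁ ε₂ ε₃ : ℤ) : Prop where
  mod : Cfsg.IsPModular 2 M
  klein : IsKleinFour (P : Subgroup G)
  fpf : Fpf P n 3
  mem : J ∈ (P : Subgroup G)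
  invol : orderOf J = 2
  block : Cfsg.principalBlock M G = {oneChar G, χ₁, χ₂, χ₃}
  ne₁ : χ₁ ≠ oneChar G
  ne₂ : χ₂ ≠ oneChar G
  ne₃ : χ₃ ≠ oneChar G
  ne₁₂ : χ₁ ≠ χ₂
  ne₁₃ : χ₁ ≠ χ₃
  ne₂₃ : χ₂ ≠ χ₃
  sign₁ : ε₁ = 1 ∨ ε₁ = -1
  sign₂ : ε₂ = 1 ∨ ε₂ = -1
  sign₃ : ε₃ = 1 ∨ ε₃ = -1
  val₁ : (χ₁ : G → ℂ) J = ε₁
  val₂ : (χ₂ : G → ℂ) J = ε₂
  val₃ : (χ₃ : G → ℂ) J = ε₃

/-- The situation from the hypotheses as stated. -/
theorem exists_data (M : Ideal Cfsg.AlgInt) (hM : Cfsg.IsPModular 2 M) (g₀ : ℕ) (hg₀ : Odd g₀)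
    (hG : Nat.card G = 4 * g₀) (hnc : ¬ ∃ N : Subgroup G, N.Normal ∧ Nat.card N = g₀)
    (P : Sylow 2 G) (J : G) (hJ : J ∈ (P : Subgroup G)) (hJ2 : orderOf J = 2)
    (χ₁ χ₂ χ₃ : Cfsg.IrrCharacter G) (ε₁ ε₂ ε₃ : ℤ)
    (hB : Cfsg.principalBlock M G = {χ : Cfsg.IrrCharacter G |
      (χ : G → ℂ) = (fun _ => 1) ∨ χ = χ₁ ∨ χ = χ₂ ∨ χ = χ₃})
    (hdist : (χ₁ : G → ℂ) ≠ (fun _ => 1) ∧ (χ₂ : G → ℂ) ≠ (fun _ => 1) ∧
      (χ₃ : G → ℂ) ≠ (fun _ => 1) ∧ χ₁ ≠ χ₂ ∧ χ₁ ≠ χ₃ ∧ χ₂ ≠ χ₃)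
    (hε : (ε₁ = 1 ∨ ε₁ = -1) ∧ (ε₂ = 1 ∨ ε₂ = -1) ∧ (ε₃ = 1 ∨ ε₃ = -1))
    (hval : (χ₁ : G → ℂ) J = ε₁ ∧ (χ₂ : G → ℂ) J = ε₂ ∧ (χ₃ : G → ℂ) J = ε₃) :
    ∃ n, Data M P n J χ₁ χ₂ χ₃ ε₁ ε₂ ε₃ := by
  obtain ⟨hK, n, hF⟩ := exists_fpf g₀ hg₀ hG hnc P
  have he : ∀ χ : Cfsg.IrrCharacter G, (χ : G → ℂ) = (fun _ => 1) ↔ χ = oneChar G := fun χ =>
    ⟨fun h => Subtype.ext (h.trans (funext fun g => (oneChar_apply g).symm)),
      fun h => h ▸ funext fun g => oneChar_apply g⟩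
  obtain ⟨h1, h2, h3, h12, h13, h23⟩ := hdist
  exact ⟨n, ⟨hM, hK, hF, hJ, hJ2, by rw [hB]; ext χ; simp [he χ],
    fun h => h1 ((he _).2 h), fun h => h2 ((he _).2 h), fun h => h3 ((he _).2 h), h12, h13, h23,
    hε.1, hε.2.1, hε.2.2, hval.1, hval.2.1, hval.2.2⟩⟩

variable {M : Ideal Cfsg.AlgInt} {P : Sylow 2 G} {n J : G} {χ₁ χ₂ χ₃ : Cfsg.IrrCharacter G}
  {ε₁ ε₂ ε₃ : ℤ}

theorem sq_sign {ε : ℤ} (h : ε = 1 ∨ ε = -1) : (ε : ℂ) * ε = 1 := by
  rcases h with h | h <;> rw [h] <;> norm_num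

theorem Data.sum_block (h : Data M P n J χ₁ χ₂ χ₃ ε₁ ε₂ ε₃) (f : Cfsg.IrrCharacter G → ℂ) :
    ∑ᶠ χ ∈ Cfsg.principalBlock M G, f χ = f (oneChar G) + f χ₁ + f χ₂ + f χ₃ := by
  rw [h.block, finsum_mem_insert _ (by simp [h.ne₁.symm, h.ne₂.symm, h.ne₃.symm])
    (Set.toFinite _), finsum_mem_insert _ (by simp [h.ne₁₂, h.ne₁₃]) (Set.toFinite _),
    finsum_mem_pair h.ne₂₃]
  ring

/-- Values on a whole section. -/
theorem Data.value (h : Data M P n J χ₁ χ₂ χ₃ ε₁ ε₂ ε₃) {z x : G} (hx : orderOf x = 2)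
    (hz : Cfsg.IsPPart 2 z x) {χ : Cfsg.IrrCharacter G} (hχ : χ ∈ Cfsg.principalBlock M G) :
    (χ : G → ℂ) z = (χ : G → ℂ) J := by
  haveI : Fact (Nat.Prime 2) := ⟨Nat.prime_two⟩
  obtain ⟨c, hc⟩ := exists_conj_mem (P := P) (g := x) ⟨1, by rw [hx, pow_one]⟩
  rw [classFunction_apply_of_isConj (isClassFunction_irr χ)
    (isConj_iff.2 ⟨c, rfl⟩ : IsConj z (c * z * c⁻¹)),
    section_const h.fpf M h.mod (Lib.BrauerMap.PrincipalSection.isPPart_conj hz c) hc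
      (fun e => invol_ne_one hx (by simpa using e)) χ hχ,
    classFunction_apply_of_isConj (isClassFunction_irr χ)
      (isConj_involution h.klein h.fpf h.invol ((orderOf_conj_eq c x).trans hx))]

/-- The relation on elements of odd order. -/
theorem Data.rel (h : Data M P n J χ₁ χ₂ χ₃ ε₁ ε₂ ε₃) {g : G} (hg : ¬ 2 ∣ orderOf g) :
    1 + (ε₁ : ℂ) * (χ₁ : G → ℂ) g + (ε₂ : ℂ) * (χ₂ : G → ℂ) g +
      (ε₃ : ℂ) * (χ₃ : G → ℂ) g = 0 := by
  haveI := h.mod.2.1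
  have hw := weak_orthogonality h.mod (isPBlock_principalBlock (M := M) (G := G)) (x := g) (y := J)
    hg (by rw [h.invol])
  rw [h.sum_block, h.val₁, h.val₂, h.val₃] at hw
  simp only [oneChar_apply, map_one, mul_one, map_intCast] at hw
  linear_combination hw

/-- Degrees modulo four. -/
theorem Data.four_dvd (h : Data M P n J χ₁ χ₂ χ₃ ε₁ ε₂ ε₃) {χ : Cfsg.IrrCharacter G} {e : ℤ}
    (he : (χ : G → ℂ) J = e) : (4 : ℤ) ∣ (Cfsg.charDegree (χ : G → ℂ) : ℤ) - e := by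
  classical
  haveI := Fintype.ofFinite (P : Subgroup G)
  obtain ⟨d, ρ, -, hρ⟩ := χ.2
  have hres : Cfsg.IsCharacter (P : Subgroup G) (fun a : (P : Subgroup G) => (χ : G → ℂ) a) :=
    ⟨d, ρ.comp (P : Subgroup G).subtype, by rw [← hρ]; rfl⟩
  obtain ⟨m, hm⟩ := exists_classInner_nat hres (isCharacter_irr (oneChar (P : Subgroup G)))
  rw [Cfsg.classInner, inv_mul_eq_iff_eq_mul₀ natCard_ne_zero, h.klein.card_four,
    ← Finset.add_sum_erase _ _ (Finset.mem_univ (1 : (P : Subgroup G))),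
    Finset.sum_congr rfl (g := fun _ => (e : ℂ)) fun a ha => by
      rw [oneChar_apply, map_one, mul_one, ← he]
      exact classFunction_apply_of_isConj (isClassFunction_irr χ)
        (isConj_involution h.klein h.fpf (Involutions.KleinSylow.orderOf_mem h.klein a.2
          (fun e' => (Finset.mem_erase.1 ha).1 (Subtype.ext e'))) h.invol),
    Finset.sum_const, Finset.card_erase_of_mem (Finset.mem_univ _), Finset.card_univ,
    ← Nat.card_eq_fintype_card, h.klein.card_four] at hm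
  simp only [oneChar_apply, map_one, mul_one, OneMemClass.coe_one, char_one_eq_degree] at hm
  refine ⟨(m : ℤ) - e, ?_⟩
  have : (((Cfsg.charDegree (χ : G → ℂ) : ℤ) - e : ℤ) : ℂ) = ((4 * ((m : ℤ) - e) : ℤ) : ℂ) := by
    push_cast at hm ⊢
    simp only [nsmul_eq_mul] at hm
    norm_num at hm
    linear_combination hm
  exact_mod_cast this

/-- The order formula before dividing. -/
theorem Data.order_eq (h : Data M P n J χ₁ χ₂ χ₃ ε₁ ε₂ ε₃) :
    (Nat.card G : ℚ) * (Nat.card (Subgroup.centralizer ((P : Subgroup G) : Set G)) : ℚ) ^ 2 *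
      (1 + (ε₁ : ℚ) / Cfsg.charDegree (χ₁ : G → ℂ) + (ε₂ : ℚ) / Cfsg.charDegree (χ₂ : G → ℂ) +
        (ε₃ : ℚ) / Cfsg.charDegree (χ₃ : G → ℂ)) =
      8 * (Nat.card (Subgroup.centralizer ({J} : Set G)) : ℚ) ^ 3 := by
  classical
  haveI := h.mod.2.1
  haveI : Fact (Nat.Prime 2) := ⟨Nat.prime_two⟩
  haveI := Fintype.ofFinite G
  set cP := Nat.card (Subgroup.centralizer ((P : Subgroup G) : Set G))
  set c := Nat.card (Subgroup.centralizer ({J} : Set G))
  set k := Nat.card {u : G // IsConj J u}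
  have hk : k * c = Nat.card G := Involutions.Thompson.card_class_mul J
  have hS := card_sectionPairs_mul h.klein h.fpf h.invol
  have hinv : ∀ u : G, IsConj J u ↔ orderOf u = 2 := fun u => by
    refine ⟨fun hu => ?_, fun hu => isConj_involution h.klein h.fpf h.invol hu⟩
    obtain ⟨g, rfl⟩ := isConj_iff.1 hu
    rw [orderOf_conj_eq, h.invol]
  set Sec : G → Prop := fun z => ∃ x, orderOf x = 2 ∧ Cfsg.IsPPart 2 z x
  set N : G → ℕ := fun z => Nat.card {q : G × G // IsConj J q.1 ∧ IsConj J q.2 ∧ q.1 * q.2 = z}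
  -- the pairs, sorted by their product
  have hN : Nat.card (SectionPairs G) = ∑ z : G, if Sec z then N z else 0 := by
    have e : Nat.card (SectionPairs G) = Nat.card (Σ z : {z : G // Sec z},
        {q : G × G // IsConj J q.1 ∧ IsConj J q.2 ∧ q.1 * q.2 = z.1}) := by
      refine Nat.card_congr
        { toFun := fun q => ⟨⟨q.1.1 * q.1.2, q.2.2.2⟩, ⟨q.1, (hinv _).2 q.2.1, (hinv _).2 q.2.2.1, rfl⟩⟩
          invFun := fun t => ⟨t.2.1, (hinv _).1 t.2.2.1, (hinv _).1 t.2.2.2.1, by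
            rw [t.2.2.2.2]; exact t.1.2⟩
          left_inv := fun q => rfl
          right_inv := ?_ }
      rintro ⟨⟨z, hz⟩, q, h1, h2, h3⟩
      obtain rfl : q.1 * q.2 = z := h3
      rfl
    rw [e, Nat.card_sigma, ← Finset.sum_filter]
    exact (Finset.sum_subtype (Finset.univ.filter Sec) (fun z => by simp) N).symm
  -- the sum over the group
  have hK : ∀ z : G, ∑ ψ ∈ (Set.toFinite (Cfsg.principalBlock M G)).toFinset,
      (ψ : G → ℂ) z * conj ((ψ : G → ℂ) J) = if Sec z then 4 else 0 := by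
    intro z
    rw [← finsum_mem_eq_finite_toFinset_sum _ (Set.toFinite _)]
    split_ifs with hz
    · obtain ⟨x, hx, hzx⟩ := hz
      have hv := fun χ hχ => h.value (χ := χ) hx hzx hχ
      rw [h.sum_block, hv _ oneChar_mem_principalBlock, hv χ₁ (by rw [h.block]; simp),
        hv χ₂ (by rw [h.block]; simp), hv χ₃ (by rw [h.block]; simp), h.val₁, h.val₂, h.val₃]
      simp only [oneChar_apply, map_one, mul_one, map_intCast, sq_sign h.sign₁, sq_sign h.sign₂,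
        sq_sign h.sign₃]
      norm_num
    · obtain ⟨x, hx⟩ := exists_isPPart Nat.prime_two z
      rw [← sum_block_eq_zero h.mod hx (isPPart_self Nat.prime_two ⟨1, by rw [h.invol, pow_one]⟩)
        (fun hxJ => hz ⟨x, by
          obtain ⟨g, hg⟩ := isConj_iff.1 hxJ
          rw [← orderOf_conj_eq g x, hg, h.invol], hx⟩) isPBlock_principalBlock]
      exact finsum_congr fun χ => finsum_congr fun _ => by rw [apply_inv (isCharacter_irr χ)]
  have hNF : ∀ z : G, (N z : ℂ) = (k : ℂ) * k / (Nat.card G : ℂ) *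
      ∑ᶠ χ : Cfsg.IrrCharacter G,
        (χ : G → ℂ) J * (χ : G → ℂ) J * conj ((χ : G → ℂ) z) / (χ : G → ℂ) 1 :=
    fun z => Cfsg.Agent.S0840.result J J z
  have key := Lib.FpfBlock.IndexThree.block_sum_eq (Cfsg.principalBlock M G) J J
  have hsum : (Nat.card (SectionPairs G) : ℂ) * 4 = (k : ℂ) * k *
      ∑ᶠ χ ∈ Cfsg.principalBlock M G,
        (χ : G → ℂ) J * (χ : G → ℂ) J * conj ((χ : G → ℂ) J) / (χ : G → ℂ) 1 := by
    rw [hN, Nat.cast_sum, Finset.sum_mul,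
      Finset.sum_congr rfl (g := fun z => (k : ℂ) * k / (Nat.card G : ℂ) *
        ((∑ᶠ χ : Cfsg.IrrCharacter G,
            (χ : G → ℂ) J * (χ : G → ℂ) J * conj ((χ : G → ℂ) z) / (χ : G → ℂ) 1) *
          ∑ ψ ∈ (Set.toFinite (Cfsg.principalBlock M G)).toFinset,
            (ψ : G → ℂ) z * conj ((ψ : G → ℂ) J))) fun z _ => ?_,
      ← Finset.mul_sum, key, ← mul_assoc, div_mul_cancel₀ _ natCard_ne_zero]
    rw [hK, ← mul_assoc, ← hNF]
    split_ifs <;> simp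
  rw [h.sum_block, h.val₁, h.val₂, h.val₃] at hsum
  simp only [oneChar_apply, map_one, mul_one, div_one, map_intCast, char_one_eq_degree,
    sq_sign h.sign₁, sq_sign h.sign₂, sq_sign h.sign₃, one_mul] at hsum
  have hQ : (Nat.card (SectionPairs G) : ℚ) * 4 = (k : ℚ) * k *
      (1 + (ε₁ : ℚ) / Cfsg.charDegree (χ₁ : G → ℂ) + (ε₂ : ℚ) / Cfsg.charDegree (χ₂ : G → ℂ) +
        (ε₃ : ℚ) / Cfsg.charDegree (χ₃ : G → ℂ)) := by
    apply (algebraMap ℚ ℂ).injective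
    simp only [map_mul, map_add, map_one, map_div₀, map_natCast, map_intCast, map_ofNat]
    exact hsum
  have hSq : (Nat.card (SectionPairs G) : ℚ) * (cP : ℚ) ^ 2 = 2 * (Nat.card G : ℚ) * c := by
    exact_mod_cast hS
  have hkq : (k : ℚ) * c = Nat.card G := by exact_mod_cast hk
  refine mul_left_cancel₀ (Nat.cast_ne_zero.2 (Nat.card_pos (α := G)).ne' : (Nat.card G : ℚ) ≠ 0) ?_
  rw [← hkq] at hSq ⊢
  linear_combination (-(c : ℚ) ^ 2 * (cP : ℚ) ^ 2) * hQ + 4 * (c : ℚ) ^ 2 * hSq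

/-- The order formula. -/
theorem Data.formula (h : Data M P n J χ₁ χ₂ χ₃ ε₁ ε₂ ε₃) :
    (Nat.card G : ℚ) = 8 * (((Cfsg.charDegree (χ₁ : G → ℂ) : ℚ) * Cfsg.charDegree (χ₂ : G → ℂ) *
        Cfsg.charDegree (χ₃ : G → ℂ)) / ((Cfsg.charDegree (χ₁ : G → ℂ) + ε₁) *
        (Cfsg.charDegree (χ₂ : G → ℂ) + ε₂) * (Cfsg.charDegree (χ₃ : G → ℂ) + ε₃))) *
      (Nat.card (Subgroup.centralizer ({J} : Set G)) : ℚ) ^ 3 /
      (Nat.card (Subgroup.centralizer ((P : Subgroup G) : Set G)) : ℚ) ^ 2 := by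
  haveI : Fact (Nat.Prime 2) := ⟨Nat.prime_two⟩
  have ho := h.order_eq
  have hr := h.rel (g := 1) (by simp)
  simp only [char_one_eq_degree] at hr
  have h4₁ := h.four_dvd h.val₁
  have h4₂ := h.four_dvd h.val₂
  have h4₃ := h.four_dvd h.val₃
  have hp₁ := charDegree_pos χ₁
  have hp₂ := charDegree_pos χ₂
  have hp₃ := charDegree_pos χ₃
  set x₁ := Cfsg.charDegree (χ₁ : G → ℂ)
  set x₂ := Cfsg.charDegree (χ₂ : G → ℂ)
  set x₃ := Cfsg.charDegree (χ₃ : G → ℂ)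
  set cP := Nat.card (Subgroup.centralizer ((P : Subgroup G) : Set G))
  set c := Nat.card (Subgroup.centralizer ({J} : Set G))
  have hne : ∀ (x : ℕ) (e : ℤ), 0 < x → (e = 1 ∨ e = -1) → (4 : ℤ) ∣ (x : ℤ) - e →
      (x : ℚ) + e ≠ 0 := by
    intro x e hx he hd h0
    have h0' : (x : ℤ) + e = 0 := by exact_mod_cast h0
    rcases he with rfl | rfl <;> omega
  have hR : (1 : ℚ) + ε₁ * x₁ + ε₂ * x₂ + ε₃ * x₃ = 0 := by
    have : ((1 + ε₁ * x₁ + ε₂ * x₂ + ε₃ * x₃ : ℤ) : ℂ) = ((0 : ℤ) : ℂ) := by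
      push_cast
      exact hr
    exact_mod_cast Int.cast_inj.1 this
  have n1 : (x₁ : ℚ) + ε₁ ≠ 0 := hne _ _ hp₁ h.sign₁ h4₁
  have n2 : (x₂ : ℚ) + ε₂ ≠ 0 := hne _ _ hp₂ h.sign₂ h4₂
  have n3 : (x₃ : ℚ) + ε₃ ≠ 0 := hne _ _ hp₃ h.sign₃ h4₃
  have n4 : (cP : ℚ) ≠ 0 := Nat.cast_ne_zero.2 Nat.card_pos.ne'
  have e1 : (x₁ : ℚ) ≠ 0 := Nat.cast_ne_zero.2 hp₁.ne'
  have e2 : (x₂ : ℚ) ≠ 0 := Nat.cast_ne_zero.2 hp₂.ne'
  have e3 : (x₃ : ℚ) ≠ 0 := Nat.cast_ne_zero.2 hp₃.ne'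
  have hkey : ((x₁ : ℚ) + ε₁) * (x₂ + ε₂) * (x₃ + ε₃) =
      (x₁ : ℚ) * x₂ * x₃ * (1 + ε₁ / x₁ + ε₂ / x₂ + ε₃ / x₃) := by
    field_simp
    rcases h.sign₁ with e | e <;> rcases h.sign₂ with e' | e' <;> rcases h.sign₃ with e'' | e'' <;>
      rw [e, e', e''] at hR ⊢ <;> push_cast at hR ⊢ <;>
      first
        | linear_combination hR
        | linear_combination -hR
  rw [hkey]
  have hS : (1 : ℚ) + ε₁ / x₁ + ε₂ / x₂ + ε₃ / x₃ ≠ 0 := by
    intro h0
    rw [h0, mul_zero] at hkey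
    exact mul_ne_zero (mul_ne_zero n1 n2) n3 hkey
  generalize (1 : ℚ) + ε₁ / x₁ + ε₂ / x₂ + ε₃ / x₃ = S at hS ho ⊢
  field_simp
  linear_combination ho

open scoped Classical in
/-- Complex conjugation permutes the block without changing the signs. -/
theorem Data.conj_mem (h : Data M P n J χ₁ χ₂ χ₃ ε₁ ε₂ ε₃) {χ : Cfsg.IrrCharacter G}
    (hχ : χ ∈ Cfsg.principalBlock M G) :
    Lib.Characters.Linear.conjChar χ ∈ Cfsg.principalBlock M G ∧
      (Lib.Characters.Linear.conjChar χ : G → ℂ) J = (χ : G → ℂ) J := by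
  haveI := h.mod.2.1
  haveI := Fintype.ofFinite G
  have hJc : ∀ ψ ∈ Cfsg.principalBlock M G, conj ((ψ : G → ℂ) J) = (ψ : G → ℂ) J := by
    intro ψ hψ
    rw [h.block] at hψ
    rcases hψ with rfl | rfl | rfl | rfl
    · simp [oneChar_apply]
    · rw [h.val₁, map_intCast]
    · rw [h.val₂, map_intCast]
    · rw [h.val₃, map_intCast]
  set s := (Set.toFinite (Cfsg.principalBlock M G)).toFinset with hs
  have hsm : ∀ ψ, ψ ∈ s ↔ ψ ∈ Cfsg.principalBlock M G := fun ψ => Set.Finite.mem_toFinset _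
  set f : G → ℂ := fun z => ∑ ψ ∈ s, (ψ : G → ℂ) z * conj ((ψ : G → ℂ) J)
  have hf : ∀ z, conj (f z) = f z := by
    intro z
    haveI : Fact (Nat.Prime 2) := ⟨Nat.prime_two⟩
    obtain ⟨x, hx⟩ := exists_isPPart Nat.prime_two z
    by_cases hxJ : IsConj x J
    · have hxo : orderOf x = 2 := by
        obtain ⟨g, hg⟩ := isConj_iff.1 hxJ
        rw [← orderOf_conj_eq g x, hg, h.invol]
      simp only [f, map_sum, map_mul, Complex.conj_conj]
      refine Finset.sum_congr rfl fun ψ hψ => ?_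
      rw [h.value hxo hx ((hsm ψ).1 hψ), hJc ψ ((hsm ψ).1 hψ)]
    · have h0 : f z = 0 := by
        rw [← sum_block_eq_zero h.mod hx (isPPart_self Nat.prime_two ⟨1, by rw [h.invol, pow_one]⟩)
          hxJ (isPBlock_principalBlock (M := M) (G := G)),
          finsum_mem_eq_finite_toFinset_sum _ (Set.toFinite _)]
        exact Finset.sum_congr rfl fun ψ _ => by rw [apply_inv (isCharacter_irr ψ)]
      rw [h0, map_zero]
  have hinner : ∀ φ : Cfsg.IrrCharacter G, Cfsg.classInner f (φ : G → ℂ) =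
      if φ ∈ s then conj ((φ : G → ℂ) J) else 0 := by
    intro φ
    have : f = ∑ ψ ∈ s, (fun z => (ψ : G → ℂ) z * conj ((ψ : G → ℂ) J)) := by
      funext z; simp [f]
    rw [this, classInner_sum_left]
    have e : ∀ ψ : Cfsg.IrrCharacter G,
        Cfsg.classInner (fun z => (ψ : G → ℂ) z * conj ((ψ : G → ℂ) J)) (φ : G → ℂ) =
          if ψ = φ then conj ((φ : G → ℂ) J) else 0 := by
      intro ψ
      have e' : Cfsg.classInner (fun z => (ψ : G → ℂ) z * conj ((ψ : G → ℂ) J)) (φ : G → ℂ) =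
          conj ((ψ : G → ℂ) J) * Cfsg.classInner (ψ : G → ℂ) (φ : G → ℂ) := by
        simp only [Cfsg.classInner, Finset.mul_sum]
        refine Finset.sum_congr rfl fun z _ => ?_
        ring
      rw [e']
      split_ifs with e''
      · rw [e'', classInner_self_irr, mul_one]
      · rw [classInner_irr_of_ne e'', mul_zero]
    rw [Finset.sum_congr rfl fun ψ _ => e ψ, Finset.sum_ite_eq']
  have hc : Cfsg.classInner f (Lib.Characters.Linear.conjChar χ : G → ℂ) =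
      conj (Cfsg.classInner f (χ : G → ℂ)) := by
    simp only [Cfsg.classInner, map_mul, map_inv₀, map_natCast, map_sum,
      Lib.Characters.Linear.conjChar_apply, Complex.conj_conj, hf]
  rw [hinner χ, if_pos ((hsm χ).2 hχ), hinner] at hc
  simp only [Complex.conj_conj] at hc
  split_ifs at hc with hmem
  · refine ⟨(hsm _).1 hmem, ?_⟩
    rw [Lib.Characters.Linear.conjChar_apply, hJc χ hχ]
  · exfalso
    rw [h.block] at hχ
    rcases hχ with rfl | rfl | rfl | rfl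
    · rw [oneChar_apply] at hc; exact one_ne_zero hc.symm
    · rw [h.val₁] at hc; rcases h.sign₁ with e | e <;> rw [e] at hc <;> norm_num at hc
    · rw [h.val₂] at hc; rcases h.sign₂ with e | e <;> rw [e] at hc <;> norm_num at hc
    · rw [h.val₃] at hc; rcases h.sign₃ with e | e <;> rw [e] at hc <;> norm_num at hc

/-- With `ε₁ = ε₂ = 1` and `ε₃ = -1` the first two characters have the same degree. -/
theorem Data.degree_eq (h : Data M P n J χ₁ χ₂ χ₃ ε₁ ε₂ ε₃) (h1 : ε₁ = 1) (h2 : ε₂ = 1)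
    (h3 : ε₃ = -1) : Cfsg.charDegree (χ₁ : G → ℂ) = Cfsg.charDegree (χ₂ : G → ℂ) := by
  classical
  haveI := h.mod.2.1
  haveI : Fact (Nat.Prime 2) := ⟨Nat.prime_two⟩
  haveI := Fintype.ofFinite G
  set ν : Cfsg.IrrCharacter G → ℂ := fun χ =>
    (Nat.card G : ℂ)⁻¹ * ∑ s : G, (χ : G → ℂ) (s * s) with hν
  have hsum : ν (oneChar G) + ν χ₁ + ν χ₂ - ν χ₃ = 0 := by
    have h0 : ∀ s : G, ∑ᶠ χ ∈ Cfsg.principalBlock M G,
        (χ : G → ℂ) (s * s) * conj ((χ : G → ℂ) J) = 0 := by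
      intro s
      obtain ⟨x, hx⟩ := exists_isPPart Nat.prime_two (s * s)
      have hx1 := two_part_sq_eq_one h.klein hx
      subst hx1
      rw [← sum_block_eq_zero h.mod hx (isPPart_self Nat.prime_two ⟨1, by rw [h.invol, pow_one]⟩)
        (fun e => invol_ne_one h.invol (isConj_one_right.1 e))
        (isPBlock_principalBlock (M := M) (G := G))]
      exact finsum_congr fun χ => finsum_congr fun _ => by rw [apply_inv (isCharacter_irr χ)]
    simp only [h.sum_block, h.val₁, h.val₂, h.val₃, oneChar_apply, map_one, mul_one, map_intCast,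
      h1, h2, h3, Int.cast_one, Int.cast_neg, map_neg, mul_neg] at h0
    have e : ∑ s : G, (1 + (χ₁ : G → ℂ) (s * s) + (χ₂ : G → ℂ) (s * s) +
        -(χ₃ : G → ℂ) (s * s)) = 0 := Finset.sum_eq_zero fun s _ => h0 s
    simp only [Finset.sum_add_distrib, Finset.sum_neg_distrib] at e
    simp only [hν, oneChar_apply]
    linear_combination ((Nat.card G : ℂ)⁻¹) * e
  have hν1 : ν (oneChar G) = 1 := by
    simp [hν, oneChar_apply, Nat.card_eq_fintype_card]
  have hreal : ∀ χ ∈ Cfsg.principalBlock M G, ∀ e : ℤ, (e = 1 ∨ e = -1) → (χ : G → ℂ) J = e →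
      (∀ g, ((χ : G → ℂ) g).im = 0) → ν χ = 1 := by
    intro χ _ e he hv hr
    refine Lib.Brauer.OddIndicator.indicator_eq_one_of_odd χ hr (char_one_eq_degree χ) ?_
    have h4 := h.four_dvd hv
    rw [Nat.odd_iff]
    rcases he with rfl | rfl <;> omega
  have hswap : ∀ χ ∈ Cfsg.principalBlock M G, (χ : G → ℂ) J = 1 →
      Lib.Characters.Linear.conjChar χ ≠ χ → χ ≠ oneChar G →
      Cfsg.charDegree (χ₁ : G → ℂ) = Cfsg.charDegree (χ₂ : G → ℂ) := by
    intro χ hχ hv hne hno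
    obtain ⟨hm, hvc⟩ := h.conj_mem hχ
    rw [hv] at hvc
    have hdeg : Cfsg.charDegree (Lib.Characters.Linear.conjChar χ : G → ℂ) =
        Cfsg.charDegree (χ : G → ℂ) := by
      have := char_one_eq_degree (Lib.Characters.Linear.conjChar χ)
      rw [Lib.Characters.Linear.conjChar_apply, conj_apply_one (isCharacter_irr χ),
        char_one_eq_degree] at this
      exact_mod_cast this.symm
    have hno' : Lib.Characters.Linear.conjChar χ ≠ oneChar G := by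
      intro e
      apply hne
      refine e.trans (Subtype.ext (funext fun g => ?_))
      have := congrFun (congrArg Subtype.val e) g
      rw [Lib.Characters.Linear.conjChar_apply, oneChar_apply] at this
      rw [oneChar_apply, ← Complex.conj_conj ((χ : G → ℂ) g), this, map_one]
    have hn3 : ∀ ψ : Cfsg.IrrCharacter G, (ψ : G → ℂ) J = 1 → ψ ≠ χ₃ := by
      rintro ψ hψ rfl
      rw [h.val₃, h3] at hψ
      norm_num at hψ
    rw [h.block] at hχ hm
    simp only [Set.mem_insert_iff, Set.mem_singleton_iff] at hχ hm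
    rcases hχ with hc | hc | hc | hc
    · exact absurd hc hno
    · rcases hm with e | e | e | e
      · exact absurd e hno'
      · exact absurd (e.trans hc.symm) hne
      · rw [← hc, ← hdeg, e]
      · exact absurd e (hn3 _ hvc)
    · rcases hm with e | e | e | e
      · exact absurd e hno'
      · rw [← hc, ← hdeg, e]
      · exact absurd (e.trans hc.symm) hne
      · exact absurd e (hn3 _ hvc)
    · exact absurd hc (hn3 _ hv)
  by_contra hdeg
  have hr : ∀ χ ∈ Cfsg.principalBlock M G, (χ : G → ℂ) J = 1 → χ ≠ oneChar G →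
      ∀ g, ((χ : G → ℂ) g).im = 0 := by
    intro χ hχ hv hno
    rw [← Lib.Characters.Indicator.conjChar_eq_self_iff]
    by_contra hne
    exact hdeg (hswap χ hχ hv hne hno)
  have hm1 : χ₁ ∈ Cfsg.principalBlock M G := by rw [h.block]; simp
  have hm2 : χ₂ ∈ Cfsg.principalBlock M G := by rw [h.block]; simp
  have hm3 : χ₃ ∈ Cfsg.principalBlock M G := by rw [h.block]; simp
  have e1 := hreal χ₁ hm1 1 (Or.inl rfl) (by rw [h.val₁, h1])
    (hr χ₁ hm1 (by rw [h.val₁, h1]; norm_num) h.ne₁)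
  have e2 := hreal χ₂ hm2 1 (Or.inl rfl) (by rw [h.val₂, h2])
    (hr χ₂ hm2 (by rw [h.val₂, h2]; norm_num) h.ne₂)
  rw [hν1, e1, e2] at hsum
  rcases em (∀ g, ((χ₃ : G → ℂ) g).im = 0) with hr3 | hr3
  · rw [hreal χ₃ hm3 (-1) (Or.inr rfl) (by rw [h.val₃, h3]) hr3] at hsum
    norm_num at hsum
  · rw [show ν χ₃ = 0 from (Lib.Characters.Indicator.indicator_spec χ₃).2 hr3] at hsum
    norm_num at hsum

end Cfsg.Agent.Lib.KleinBlock
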