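import Cfsg.Agent.Lib.FpfBlock.IndexThree
import Cfsg.Agent.Lib.Involutions.KleinSylow
import Cfsg.Agent.Lib.Involutions.Thompson
import Cfsg.Agent.Lib.TwoGroups.Recognition

/-!
# Pairs of involutions with product in the section of an involution, Klein four Sylow subgroup
-/

set_option autoImplicit false
set_option linter.unusedSectionVars false
set_option linter.style.haveILetI false

namespace Cfsg.Agent.Lib.KleinBlock

open Cfsg.Agent.Lib.Blocks Cfsg.Agent.Lib.FpfBlock.Setting
open Cfsg.Agent.Lib.Involutions.Basic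

universe u

variable {G : Type u} [Group G] [Finite G]

/-- Without a normal `2`-complement a Sylow `2`-subgroup of order four is a fused four group. -/
theorem exists_fpf (g₀ : ℕ) (hg₀ : Odd g₀) (hG : Nat.card G = 4 * g₀)
    (hnc : ¬ ∃ N : Subgroup G, N.Normal ∧ Nat.card N = g₀) (P : Sylow 2 G) :
    IsKleinFour (P : Subgroup G) ∧ ∃ n : G, Fpf P n 3 := by
  haveI : Fact (Nat.Prime 2) := ⟨Nat.prime_two⟩
  have h4 : Nat.card (P : Subgroup G) = 4 := by
    rw [P.card_eq_multiplicity, hG, Nat.factorization_mul (by norm_num) (by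
      rintro rfl; simp at hg₀), Finsupp.add_apply,
      Nat.factorization_eq_zero_of_not_dvd (n := g₀) fun h =>
        Nat.not_even_iff_odd.2 hg₀ (even_iff_two_dvd.2 h), add_zero,
      show (4 : ℕ) = 2 ^ 2 by norm_num, Nat.prime_two.factorization_pow, Finsupp.single_eq_same]
  have hcompl : ∀ N : Subgroup G, N.Normal → Subgroup.IsComplement' N (P : Subgroup G) → False :=
    fun N hN hc => hnc ⟨N, hN, by
      have := hc.card_mul
      rw [h4, hG] at this
      omega⟩
  have hncyc : ¬ IsCyclic (P : Subgroup G) := fun hc => by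
    have hmin : (Nat.card G).minFac = 2 :=
      (Nat.minFac_eq_two_iff _).2 (by rw [hG]; omega)
    exact hcompl _ inferInstance (hc.isComplement' hmin)
  have hsq : ∀ h ∈ (P : Subgroup G), h * h = 1 := by
    intro h hh
    by_contra hne
    refine hncyc (isCyclic_of_orderOf_eq_card (⟨h, hh⟩ : (P : Subgroup G)) ?_)
    obtain ⟨i, hi, hi'⟩ := (Nat.dvd_prime_pow Nat.prime_two).1
      (show orderOf (⟨h, hh⟩ : (P : Subgroup G)) ∣ 2 ^ 2 by
        rw [show (2 : ℕ) ^ 2 = 4 by norm_num, ← h4]; exact orderOf_dvd_natCard _)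
    rw [h4, hi']
    interval_cases i
    · exfalso
      rw [pow_zero, orderOf_eq_one_iff] at hi'
      apply hne
      rw [show h = 1 from congrArg Subtype.val hi', one_mul]
    · exfalso
      apply hne
      have := pow_orderOf_eq_one (⟨h, hh⟩ : (P : Subgroup G))
      rw [hi', pow_one, pow_two] at this
      exact congrArg Subtype.val this
    · norm_num
  have hP : IsKleinFour (P : Subgroup G) := Lib.TwoGroups.Recognition.isKleinFour_of_card h4 hsq
  haveI : IsMulCommutative (P : Subgroup G) := IsKleinFour.isMulCommutative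
  refine ⟨hP, ?_⟩
  obtain ⟨n, hn, hnC⟩ := SetLike.not_le_iff_exists.1 fun hle : Subgroup.normalizer ((P : Subgroup G) : Set G) ≤
      Subgroup.centralizer ((P : Subgroup G) : Set G) =>
    hcompl _ inferInstance (MonoidHom.ker_transferSylow_isComplement' P hle)
  obtain ⟨a, ha, hane⟩ : ∃ a ∈ (P : Subgroup G), n * a * n⁻¹ ≠ a := by
    by_contra h
    push Not at h
    exact hnC (Subgroup.mem_centralizer_iff.2 fun a ha => (mul_inv_eq_iff_eq_mul.1 (h a ha)).symm)
  set b := n * a * n⁻¹ with hb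
  have ha1 : a ≠ 1 := by rintro rfl; exact hane (by simp [hb])
  have hconjP : ∀ x ∈ (P : Subgroup G), n * x * n⁻¹ ∈ (P : Subgroup G) := fun x hx =>
    (Subgroup.mem_normalizer_iff.1 hn x).1 hx
  have hbP := hconjP a ha
  have hb1 : b ≠ 1 := fun h => ha1 (by simpa [hb] using h)
  have hall : ∀ e ∈ (P : Subgroup G), e ≠ 1 → e ≠ a → e ≠ b → e = a * b := fun e he he1 hea heb =>
    congrArg Subtype.val (IsKleinFour.eq_mul_of_ne_all (x := (⟨a, ha⟩ : (P : Subgroup G)))
      (y := ⟨b, hbP⟩) (z := ⟨e, he⟩) (by simpa using ha1) (by simpa using hb1)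
      (by simpa using hane.symm) (by simpa using he1) (by simpa using hea) (by simpa using heb))
  have hd : n * b * n⁻¹ = a * b := by
    refine hall _ (hconjP b hbP) (fun h => hb1 (by simpa using h)) (fun h => hane ?_) (fun h => ?_)
    · exact (Involutions.KleinSylow.no_swap hP hn ha hb.symm h).symm
    · exact hane (mul_left_cancel (mul_right_cancel (h.trans hb)))
  have he : n * (a * b) * n⁻¹ = a := by
    calc n * (a * b) * n⁻¹ = n * a * n⁻¹ * (n * b * n⁻¹) := by group
      _ = b * (a * b) := by rw [hd]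
      _ = b * (b * a) := by rw [setLike_mul_comm ha hbP]
      _ = a := by rw [← mul_assoc, hsq b hbP, one_mul]
  have h3 : ∀ x ∈ (P : Subgroup G), n ^ 3 * x * (n ^ 3)⁻¹ = x := by
    intro x hx
    have e3 : n ^ 3 * x * (n ^ 3)⁻¹ = n * (n * (n * x * n⁻¹) * n⁻¹) * n⁻¹ := by
      simp [pow_succ, mul_assoc]
    rw [e3]
    rcases eq_or_ne x 1 with rfl | hx1
    · simp
    rcases eq_or_ne x a with rfl | hxa
    · rw [← hb, hd, he]
    rcases eq_or_ne x b with rfl | hxb
    · rw [hd, he]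
    rw [hall x hx hx1 hxa hxb, he, ← hb, hd]
  have hne : ∀ x ∈ (P : Subgroup G), x ≠ 1 →
      n * x * n⁻¹ ≠ x ∧ n * (n * x * n⁻¹) * n⁻¹ ≠ x := by
    intro x hx hx1
    have hab : a ≠ a * b := fun h => hb1 (by simpa using h.symm)
    have hbb : b ≠ a * b := fun h => ha1 (by simpa using h.symm)
    rcases eq_or_ne x a with rfl | hxa
    · rw [← hb, hd]; exact ⟨hane, hab.symm⟩
    rcases eq_or_ne x b with rfl | hxb
    · rw [hd, he]; exact ⟨hbb.symm, hane.symm⟩
    rw [hall x hx hx1 hxa hxb, he, ← hb]; exact ⟨hab, hbb⟩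
  refine ⟨n, { pos := by norm_num
               comm := fun x hx y hy => setLike_mul_comm hx hy
               mem := hn
               pow := Subgroup.mem_centralizer_iff.2 fun x hx =>
                 (mul_inv_eq_iff_eq_mul.1 (h3 x hx)).symm
               fix := ?_
               fus := ?_
               cen := ?_ }⟩
  · intro z hz hz1 i hi
    have hc : ∀ q : ℕ, n ^ (3 * q) * z * (n ^ (3 * q))⁻¹ = z := fun q => by
      have hm : Commute (n ^ 3) z := mul_inv_eq_iff_eq_mul.1 (h3 z hz)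
      rw [pow_mul, (hm.pow_left q).eq, mul_inv_cancel_right]
    have hr : n ^ (i % 3) * z * (n ^ (i % 3))⁻¹ = z := by
      conv_lhs => rw [← hc (i / 3)]
      calc _ = n ^ (i % 3 + 3 * (i / 3)) * z * (n ^ (i % 3 + 3 * (i / 3)))⁻¹ := by
            rw [pow_add]; group
        _ = z := by rw [Nat.mod_add_div]; exact hi
    rcases (show i % 3 = 0 ∨ i % 3 = 1 ∨ i % 3 = 2 by omega) with h | h | h <;> rw [h] at hr
    · exact Nat.dvd_of_mod_eq_zero h
    · exact absurd (by simpa using hr) (hne z hz hz1).1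
    · refine absurd ?_ (hne z hz hz1).2
      calc n * (n * z * n⁻¹) * n⁻¹ = n ^ 2 * z * (n ^ 2)⁻¹ := by simp [pow_two, mul_assoc]
        _ = z := hr
  · intro x hx y hy hxy
    rcases eq_or_ne x 1 with rfl | hx1
    · exact ⟨0, by simp [isConj_one_right.1 hxy]⟩
    have hy1 : y ≠ 1 := fun h => hx1 (isConj_one_left.1 (h ▸ hxy))
    have hnx := hne x hx hx1
    rcases eq_or_ne y x with rfl | hyx
    · exact ⟨0, by simp⟩
    rcases eq_or_ne y (n * x * n⁻¹) with rfl | hy'
    · exact ⟨1, by simp⟩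
    refine ⟨2, ?_⟩
    have hx' := hconjP x hx
    have h2 : ∀ e ∈ (P : Subgroup G), e ≠ 1 → e ≠ x → e ≠ n * x * n⁻¹ → e = x * (n * x * n⁻¹) :=
      fun e he he1 hea heb =>
      congrArg Subtype.val (IsKleinFour.eq_mul_of_ne_all (x := (⟨x, hx⟩ : (P : Subgroup G)))
        (y := ⟨_, hx'⟩) (z := ⟨e, he⟩) (by simpa using hx1) (by simpa using hx1)
        (fun h => hnx.1 (congrArg Subtype.val h).symm) (by simpa using he1) (by simpa using hea)
        (by simpa using heb))
    rw [h2 y hy hy1 hyx hy',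
      ← h2 (n * (n * x * n⁻¹) * n⁻¹) (hconjP _ hx') (by simpa using hx1) hnx.2
        (fun h => hnx.1 (mul_left_cancel (mul_right_cancel h)))]
    simp [pow_two, mul_assoc]
  · intro c hc z hz hz1 hcz
    refine Subgroup.mem_centralizer_iff.2 fun x hx => ?_
    rcases eq_or_ne x 1 with rfl | hx1
    · simp
    rcases eq_or_ne x z with rfl | hxz
    · exact hcz.eq.symm
    refine (mul_inv_eq_iff_eq_mul.1 ?_).symm
    set x' := c * x * c⁻¹ with hx'
    have hx'P : x' ∈ (P : Subgroup G) := (Subgroup.mem_normalizer_iff.1 hc x).1 hx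
    by_contra hne'
    have hkey : ∀ e ∈ (P : Subgroup G), e ≠ 1 → e ≠ z → e ≠ x → e = z * x :=
      fun e he he1 hea heb =>
      congrArg Subtype.val (IsKleinFour.eq_mul_of_ne_all (x := (⟨z, hz⟩ : (P : Subgroup G)))
        (y := ⟨x, hx⟩) (z := ⟨e, he⟩) (by simpa using hz1) (by simpa using hx1)
        (by simpa using hxz.symm) (by simpa using he1) (by simpa using hea) (by simpa using heb))
    have hcz' : c * z * c⁻¹ = z := by rw [hcz.eq, mul_inv_cancel_right]
    have hx'z : x' ≠ z := fun h =>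
      hxz (mul_left_cancel (mul_right_cancel (h.trans hcz'.symm)))
    have e1 : x' = z * x := hkey x' hx'P (fun h => hx1 (by simpa [hx'] using h)) hx'z hne'
    refine hne' (Involutions.KleinSylow.no_swap hP hc hx rfl ?_).symm
    rw [← hx', e1]
    calc c * (z * x) * c⁻¹ = (c * z * c⁻¹) * x' := by rw [hx']; group
      _ = x := by rw [hcz', e1, ← mul_assoc, hsq z hz, one_mul]

variable {P : Sylow 2 G} {n : G}

/-- All involutions are conjugate. -/
theorem isConj_involution (hP : IsKleinFour (P : Subgroup G)) (hF : Fpf P n 3) {J t : G}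
    (hJ : orderOf J = 2) (ht : orderOf t = 2) : IsConj J t := by
  haveI : Fact (Nat.Prime 2) := ⟨Nat.prime_two⟩
  obtain ⟨c, hc⟩ := exists_conj_mem (P := P) (g := J) ⟨1, by rw [hJ, pow_one]⟩
  obtain ⟨d, hd⟩ := exists_conj_mem (P := P) (g := t) ⟨1, by rw [ht, pow_one]⟩
  set a := c * J * c⁻¹
  set b := d * t * d⁻¹
  have ha1 : a ≠ 1 := fun h => invol_ne_one hJ (by simpa [a] using h)
  have hn : n * a * n⁻¹ ∈ (P : Subgroup G) := (Subgroup.mem_normalizer_iff.1 hF.mem a).1 hc
  have hne : a ≠ n * a * n⁻¹ := fun h => by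
    have := hF.fix a hc ha1 1 (by rw [pow_one]; exact h.symm)
    omega
  have hab := Involutions.KleinSylow.isConj_all hP hc ha1 hn (by simpa using ha1) hne
    (isConj_iff.2 ⟨n, rfl⟩) hd (fun h => invol_ne_one ht (by simpa [b] using h))
  exact ((isConj_iff.2 ⟨c, rfl⟩ : IsConj J a).trans hab).trans
    (isConj_iff.2 ⟨d, rfl⟩ : IsConj t b).symm

/-- A `2`-part is trivial or an involution. -/
theorem two_part_sq (hP : IsKleinFour (P : Subgroup G)) {g x : G} (hx : Cfsg.IsPPart 2 g x) :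
    x * x = 1 := by
  haveI : Fact (Nat.Prime 2) := ⟨Nat.prime_two⟩
  obtain ⟨c, hc⟩ := exists_conj_mem (P := P) (g := x) (by
    obtain ⟨v, -, -, h, -⟩ := hx; exact h)
  have h := Involutions.KleinSylow.sq_eq_one hP hc
  calc x * x = c⁻¹ * (c * x * c⁻¹ * (c * x * c⁻¹)) * c := by group
    _ = 1 := by rw [h]; group

/-- A square has trivial `2`-part. -/
theorem two_part_sq_eq_one (hP : IsKleinFour (P : Subgroup G)) {s x : G}
    (hx : Cfsg.IsPPart 2 (s * s) x) : x = 1 := by
  haveI : Fact (Nat.Prime 2) := ⟨Nat.prime_two⟩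
  obtain ⟨u, hu⟩ := exists_isPPart Nat.prime_two s
  have h2 := two_part_sq hP hu
  obtain ⟨v, hv, hcom, -, hv'⟩ := hu
  refine Lib.BrauerMap.PrincipalSection.isPPart_unique Nat.prime_two hx ⟨v * v, ?_, Commute.one_left _, ⟨0, by simp⟩, ?_⟩
  · rw [← hv, one_mul]
    calc v * v = (u * u) * (v * v) := by rw [h2, one_mul]
      _ = u * (u * v) * v := by group
      _ = u * (v * u) * v := by rw [hcom.eq]
      _ = u * v * (u * v) := by group
  · intro hd
    exact hv' (hd.trans (by rw [← pow_two]; exact orderOf_pow_dvd 2))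

/-- The odd elements inverted by `a` and commuting with `x`. -/
def Inverted (a x : G) : Type u :=
  {v : G // Odd (orderOf v) ∧ Commute x v ∧ a * v * a⁻¹ = v⁻¹}

/-- Ordered pairs of distinct commuting involutions. -/
def CommPairs (G : Type u) [Group G] : Type u :=
  {q : G × G // orderOf q.1 = 2 ∧ orderOf q.2 = 2 ∧ Commute q.1 q.2 ∧ q.1 ≠ q.2}

/-- Pairs of involutions whose product has an involution as `2`-part. -/
def SectionPairs (G : Type u) [Group G] : Type u :=
  {q : G × G // orderOf q.1 = 2 ∧ orderOf q.2 = 2 ∧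
    ∃ x, orderOf x = 2 ∧ Cfsg.IsPPart 2 (q.1 * q.2) x}

instance : Finite (CommPairs G) := Subtype.finite
instance : Finite (SectionPairs G) := Subtype.finite
instance (a x : G) : Finite (Inverted a x) := Subtype.finite

/-- Splitting a pair of involutions along the parts of its product. -/
theorem card_sectionPairs :
    Nat.card (SectionPairs G) = Nat.card (Σ t : CommPairs G, Inverted t.1.1 t.1.2) := by
  have hne : ∀ a x v : G, orderOf a = 2 → orderOf x = 2 → a ≠ x → Commute x v → Odd (orderOf v) →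
      a * x * v ≠ 1 := by
    intro a x v ha hx hax hcv hv h
    have e : x * v = a := by
      have h' := congrArg (fun g => a * g) h
      simpa [← mul_assoc, invol_mul_self ha] using h'
    have hv2 : v * v = 1 := by
      calc v * v = (x * x) * (v * v) := by rw [invol_mul_self hx, one_mul]
        _ = x * (x * v) * v := by group
        _ = x * (v * x) * v := by rw [hcv.eq]
        _ = (x * v) * (x * v) := by group
        _ = 1 := by rw [e, invol_mul_self ha]
    have hv1 : v = 1 := by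
      rw [← orderOf_eq_one_iff]
      exact Nat.eq_one_of_dvd_coprimes ((Nat.prime_two.coprime_iff_not_dvd).2 fun h2 =>
        (Nat.not_even_iff_odd.2 hv) (even_iff_two_dvd.2 h2))
        (orderOf_dvd_of_pow_eq_one (by rw [pow_two, hv2])) dvd_rfl
    rw [hv1, mul_one] at e
    exact hax e.symm
  symm
  refine Nat.card_eq_of_bijective (fun t => ⟨(t.1.1.1, t.1.1.1 * t.1.1.2 * t.2.1), ?_⟩) ⟨?_, ?_⟩
  · obtain ⟨⟨⟨a, x⟩, ha, hx, hax, hne'⟩, ⟨v, hv, hcv, hav⟩⟩ := t
    simp only at hav hcv ⊢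
    refine ⟨ha, invol_iff.2 ⟨?_, hne a x v ha hx hne' hcv hv⟩, x, hx, v, ?_, hcv,
      ⟨1, by rw [hx, pow_one]⟩, fun h => Nat.not_even_iff_odd.2 hv (even_iff_two_dvd.2 h)⟩
    · have hai : a⁻¹ = a := inv_eq_of_mul_eq_one_right (invol_mul_self ha)
      calc a * x * v * (a * x * v) = (a * x) * v * a * (x * v) := by group
        _ = x * (a * v * a⁻¹) * (x * v) := by rw [hax.eq, hai]; group
        _ = x * (v⁻¹ * x) * v := by rw [hav]; group
        _ = x * (x * v⁻¹) * v := by rw [(hcv.inv_right).eq]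
        _ = 1 := by rw [← mul_assoc x x, invol_mul_self hx]; group
    · rw [← mul_assoc, ← mul_assoc, invol_mul_self ha, one_mul]
  · rintro ⟨⟨⟨a, x⟩, ha, hx, hax, hne'⟩, ⟨v, hv, hcv, hav⟩⟩
      ⟨⟨⟨a', x'⟩, ha', hx', hax', hne''⟩, ⟨v', hv', hcv', hav'⟩⟩ h
    simp only [SectionPairs, Subtype.mk.injEq, Prod.mk.injEq] at h
    obtain ⟨rfl, h2⟩ := h
    rw [mul_assoc, mul_assoc] at h2
    have h3 := mul_left_cancel h2
    have hnd : ∀ w : G, Odd (orderOf w) → ¬ 2 ∣ orderOf w := fun w hw h =>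
      Nat.not_even_iff_odd.2 hw (even_iff_two_dvd.2 h)
    obtain rfl : x = x' := Lib.BrauerMap.PrincipalSection.isPPart_unique Nat.prime_two
      (g := x * v) ⟨v, rfl, hcv, ⟨1, by rw [hx, pow_one]⟩, hnd v hv⟩
      ⟨v', h3.symm, hcv', ⟨1, by rw [hx', pow_one]⟩, hnd v' hv'⟩
    obtain rfl := mul_left_cancel h3
    rfl
  · rintro ⟨⟨a, b⟩, ha, hb, x, hx, hp⟩
    simp only at hp
    obtain ⟨k, hk⟩ := Lib.BrauerMap.PrincipalSection.isPPart_mem_zpowers Nat.prime_two hp
    obtain ⟨v, hv, hcv, -, hv'⟩ := hp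
    have hai : a⁻¹ = a := inv_eq_of_mul_eq_one_right (invol_mul_self ha)
    have hbi : b⁻¹ = b := inv_eq_of_mul_eq_one_right (invol_mul_self hb)
    have hrev : a * (a * b) * a⁻¹ = (a * b)⁻¹ := by
      rw [mul_inv_rev, hai, hbi, ← mul_assoc, invol_mul_self ha, one_mul]
    have hxa : a * x * a⁻¹ = x⁻¹ := by
      rw [← hk]
      change a * (a * b) ^ k * a⁻¹ = ((a * b) ^ k)⁻¹
      rw [← conj_zpow, hrev, inv_zpow]
    rw [inv_eq_of_mul_eq_one_right (invol_mul_self hx)] at hxa
    have hax : Commute a x := mul_inv_eq_iff_eq_mul.1 hxa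
    have hav : a * v * a⁻¹ = v⁻¹ := by
      have e : v = x * (a * b) := by rw [← hv, ← mul_assoc, invol_mul_self hx, one_mul]
      have e' : v⁻¹ = x * (a * b)⁻¹ := by
        rw [← hv, mul_inv_rev, (hcv.symm.inv_left.inv_right).eq, ← mul_assoc,
          mul_inv_cancel, one_mul]
      rw [e', ← hrev]
      conv_lhs => rw [e]
      calc a * (x * (a * b)) * a⁻¹ = (a * x * a⁻¹) * (a * (a * b) * a⁻¹) := by group
        _ = x * (a * (a * b) * a⁻¹) := by rw [hxa]
    have hne' : a ≠ x := by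
      rintro rfl
      have hb' : b = v := by
        have h' := congrArg (fun g => a * g) hv
        simpa [← mul_assoc, invol_mul_self ha] using h'.symm
      exact hv' (by rw [← hb', hb])
    refine ⟨⟨⟨(a, x), ha, hx, hax, hne'⟩, ⟨v, Nat.not_even_iff_odd.1 fun h => hv' h.two_dvd, hcv,
      hav⟩⟩, ?_⟩
    refine Subtype.ext (Prod.ext rfl ?_)
    change a * x * v = b
    rw [mul_assoc, hv, ← mul_assoc, invol_mul_self ha, one_mul]

/-- Conjugation carries the inverted elements along. -/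
theorem card_inverted_conj (g a x : G) :
    Nat.card (Inverted (g * a * g⁻¹) (g * x * g⁻¹)) = Nat.card (Inverted a x) := by
  symm
  refine Nat.card_congr (Equiv.subtypeEquiv (MulAut.conj g).toEquiv fun v => ?_)
  simp only [MulEquiv.toEquiv_eq_coe, EquivLike.coe_coe, MulAut.conj_apply]
  rw [show g * a * g⁻¹ * (g * v * g⁻¹) * (g * a * g⁻¹)⁻¹ = g * (a * v * a⁻¹) * g⁻¹ by group,
    show (g * v * g⁻¹)⁻¹ = g * v⁻¹ * g⁻¹ by group, show (g * v * g⁻¹) = MulAut.conj g v from rfl,
    MulEquiv.orderOf_eq, show g * x * g⁻¹ = MulAut.conj g x from rfl,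
    ← (commute_map_iff (MulAut.conj g).injective (f := MulAut.conj g))]
  simp

/-- The number of inverted elements for two involutions of the Sylow subgroup. -/
theorem card_inverted (hP : IsKleinFour (P : Subgroup G)) (hF : Fpf P n 3) {J x : G}
    (hJP : J ∈ (P : Subgroup G)) (hxP : x ∈ (P : Subgroup G)) (hJ1 : J ≠ 1) (hx1 : x ≠ 1)
    (hJx : J ≠ x) :
    Nat.card (Inverted J x) * Nat.card (Subgroup.centralizer ((P : Subgroup G) : Set G)) =
      Nat.card (Subgroup.centralizer ({J} : Set G)) := by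
  classical
  haveI : Fact (Nat.Prime 2) := ⟨Nat.prime_two⟩
  have hJ : orderOf J = 2 := Involutions.KleinSylow.orderOf_mem hP hJP hJ1
  have hx : orderOf x = 2 := Involutions.KleinSylow.orderOf_mem hP hxP hx1
  have h4 : Nat.card (P : Subgroup G) = 4 := hP.card_four
  have hc : Nat.card (Subgroup.centralizer ({x} : Set G)) =
      Nat.card (Subgroup.centralizer ({J} : Set G)) := by
    have h1 := Involutions.Thompson.card_class_mul x
    have h2 := Involutions.Thompson.card_class_mul J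
    have hxJ := isConj_involution hP hF hx hJ
    rw [Nat.card_congr (Equiv.subtypeEquivRight fun u => ⟨fun h => hxJ.symm.trans h,
      fun h => hxJ.trans h⟩ : {u : G // IsConj x u} ≃ {u : G // IsConj J u}), ← h2] at h1
    haveI : Nonempty {u : G // IsConj J u} := ⟨⟨J, IsConj.refl J⟩⟩
    exact Nat.eq_of_mul_eq_mul_left Nat.card_pos h1
  set C := Subgroup.centralizer ({x} : Set G) with hC
  obtain ⟨K, hKn, hK2, hKi⟩ := centralizer_complement hF hxP hx1
  rw [h4] at hKi
  have hKodd : ∀ v ∈ K, Odd (orderOf v) := fun v hv =>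
    Nat.not_even_iff_odd.1 fun h => hK2 ((h.two_dvd).trans (by
      rw [← Subgroup.orderOf_mk (H := K) v hv]; exact orderOf_dvd_natCard _))
  have hle : (P : Subgroup G) ≤ C := fun b hb =>
    Subgroup.mem_centralizer_singleton_iff.2 (hF.comm b hb x hxP)
  -- the odd elements of `C` are those of `K`
  have hKmem : ∀ v : C, v ∈ K ↔ Odd (orderOf v) := by
    refine fun v => ⟨hKodd v, fun hv => ?_⟩
    rw [← QuotientGroup.eq_one_iff, ← orderOf_eq_one_iff]
    refine Nat.eq_one_of_dvd_coprimes (Nat.Coprime.pow_left 2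
      ((Nat.prime_two.coprime_iff_not_dvd).2 fun h =>
        Nat.not_even_iff_odd.2 hv (even_iff_two_dvd.2 h)))
      (by rw [show (2 : ℕ) ^ 2 = K.index by rw [hKi]; norm_num, Subgroup.index_eq_card]
          exact orderOf_dvd_natCard _)
      (orderOf_map_dvd (QuotientGroup.mk' K) v)
  -- the centraliser of `P`
  have hCP : Subgroup.centralizer ((P : Subgroup G) : Set G) ≤ C :=
    Subgroup.centralizer_le (Set.singleton_subset_iff.2 hxP)
  set H := (Subgroup.centralizer ((P : Subgroup G) : Set G)).subgroupOf C with hH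
  have hHcard : Nat.card H = Nat.card (Subgroup.centralizer ((P : Subgroup G) : Set G)) :=
    Nat.card_congr (Subgroup.subgroupOfEquivOfLe hCP).toEquiv
  have hHmem : ∀ c : C, c ∈ H ↔ Commute J (c : G) := by
    intro c
    rw [hH, Subgroup.mem_subgroupOf, Subgroup.mem_centralizer_iff]
    refine ⟨fun h => h J hJP, fun h b hb => ?_⟩
    have hxc : x * (c : G) = c * x := (Subgroup.mem_centralizer_singleton_iff.1 c.2).symm
    rcases eq_or_ne b 1 with rfl | hb1
    · simp
    rcases eq_or_ne b J with rfl | hbJ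
    · exact h.eq
    rcases eq_or_ne b x with rfl | hbx
    · exact hxc
    have hbe : b = J * x := congrArg Subtype.val
      (IsKleinFour.eq_mul_of_ne_all (x := (⟨J, hJP⟩ : (P : Subgroup G))) (y := ⟨x, hxP⟩)
        (z := ⟨b, hb⟩) (by simpa using hJ1) (by simpa using hx1) (by simpa using hJx)
        (by simpa using hb1) (by simpa using hbJ) (by simpa using hbx))
    rw [hbe]
    exact (Commute.mul_left h hxc).eq
  have hrel : K.relIndex H = 4 := by
    refine Nat.dvd_antisymm (hKi ▸ Subgroup.relIndex_dvd_index_of_normal K H) ?_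
    have h4H : 4 ∣ Nat.card H := by
      rw [hHcard, ← h4]
      exact Subgroup.card_dvd_of_le fun b hb => Subgroup.mem_centralizer_iff.2 fun d hd =>
        hF.comm d hd b hb
    rw [← Subgroup.card_mul_index (K.subgroupOf H)] at h4H
    refine (Nat.Coprime.pow_left 2 ((Nat.prime_two.coprime_iff_not_dvd).2 fun h => hK2
      (h.trans ?_))).dvd_of_dvd_mul_left h4H
    refine Subgroup.card_dvd_of_injective
      (((H.subtype).comp (K.subgroupOf H).subtype).codRestrict K fun w => w.2) fun u w huw => ?_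
    exact Subtype.ext (Subtype.ext (congrArg (fun r : K => (r : C)) huw))
  -- square roots in odd subgroups
  have hroot : ∀ v : G, Odd (orderOf v) → ∃ j : ℕ, v ^ j * v ^ j = v := by
    intro v ⟨i, hi⟩
    exact ⟨i + 1, by rw [← pow_add, show i + 1 + (i + 1) = orderOf v + 1 by omega, pow_succ,
      pow_orderOf_eq_one, one_mul]⟩
  choose r hr using fun v : Inverted J x => hroot v.1 v.2.1
  have hmemK : ∀ v : Inverted J x, ∀ i : ℕ, ∃ w : C, w ∈ K ∧ (w : G) = v.1 ^ i := fun v i => by
    refine ⟨⟨v.1 ^ i, Subgroup.mem_centralizer_singleton_iff.2 (v.2.2.1.pow_right i).eq.symm⟩,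
      ?_, rfl⟩
    have hv : (⟨v.1, Subgroup.mem_centralizer_singleton_iff.2 v.2.2.1.eq.symm⟩ : C) ∈ K := by
      rw [hKmem, Subgroup.orderOf_mk]; exact v.2.1
    exact pow_mem hv i
  choose rt hrtK hrtv using fun v : Inverted J x => hmemK v (r v)
  -- the bijection
  have key : Nat.card K = Nat.card (Inverted J x) * Nat.card (K.subgroupOf H) := by
    rw [← Nat.card_prod]
    symm
    refine Nat.card_eq_of_bijective
      (fun t => ⟨(t.2.1.1 : C) * rt t.1, mul_mem t.2.2 (hrtK t.1)⟩) ⟨?_, ?_⟩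
    · rintro ⟨v, c⟩ ⟨v', c'⟩ h
      have h' : ((c.1.1 : C) : G) * v.1 ^ r v = ((c'.1.1 : C) : G) * v'.1 ^ r v' := by
        rw [← hrtv, ← hrtv]
        exact congrArg (fun w : K => ((w : C) : G)) h
      have hJi : J⁻¹ = J := inv_eq_of_mul_eq_one_right (invol_mul_self hJ)
      have hf : ∀ (v : Inverted J x) (c : K.subgroupOf H),
          (((c.1.1 : C) : G) * v.1 ^ r v)⁻¹ * (J * (((c.1.1 : C) : G) * v.1 ^ r v) * J⁻¹) =
            v.1⁻¹ := by
        intro v c
        have hcJ : Commute J ((c.1.1 : C) : G) := (hHmem c.1.1).1 c.1.2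
        have hvj : J * v.1 ^ r v * J⁻¹ = (v.1 ^ r v)⁻¹ := by rw [← conj_pow, v.2.2.2, inv_pow]
        calc (((c.1.1 : C) : G) * v.1 ^ r v)⁻¹ * (J * (((c.1.1 : C) : G) * v.1 ^ r v) * J⁻¹)
            = (v.1 ^ r v)⁻¹ * (((c.1.1 : C) : G)⁻¹ * (J * ((c.1.1 : C) : G))) *
              (v.1 ^ r v * J⁻¹) := by group
          _ = (v.1 ^ r v)⁻¹ * (J * v.1 ^ r v * J⁻¹) := by rw [hcJ.eq]; group
          _ = v.1⁻¹ := by rw [hvj, ← mul_inv_rev, hr]
      have hv : v = v' := Subtype.ext (inv_injective (by rw [← hf v c, h', hf v' c']))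
      subst hv
      exact Prod.ext rfl (Subtype.ext (Subtype.ext (Subtype.ext (mul_right_cancel h'))))
    · rintro ⟨k, hk⟩
      set f := (k : G)⁻¹ * (J * (k : G) * J⁻¹) with hfdef
      have hJC : J ∈ C := hle hJP
      have hfK : (k⁻¹ * (⟨J, hJC⟩ * k * (⟨J, hJC⟩ : C)⁻¹)) ∈ K :=
        mul_mem (inv_mem hk) (hKn.conj_mem k hk _)
      have hfodd : Odd (orderOf f⁻¹) := by
        rw [orderOf_inv]
        have := hKodd _ hfK
        rwa [← Subgroup.orderOf_coe] at this
      have hfx : Commute x f⁻¹ :=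
        (show Commute x f from (Subgroup.mem_centralizer_singleton_iff.1
          (k⁻¹ * ((⟨J, hJC⟩ : C) * k * (⟨J, hJC⟩ : C)⁻¹)).2).symm).inv_right
      have hJ2 : J * J = 1 := invol_mul_self hJ
      have hJi : J⁻¹ = J := inv_eq_of_mul_eq_one_right hJ2
      have hfJ : J * f⁻¹ * J⁻¹ = f⁻¹⁻¹ := by
        have e : ∀ K' : G, J * (J * K'⁻¹ * J * K') * J = K'⁻¹ * J * K' * J := fun K' => by
          rw [show J * (J * K'⁻¹ * J * K') * J = (J * J) * K'⁻¹ * J * K' * J by group, hJ2, one_mul]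
        rw [inv_inv, hfdef, mul_inv_rev, mul_inv_rev, mul_inv_rev, inv_inv, hJi, inv_inv]
        simpa [mul_assoc] using e (k : G)
      set v : Inverted J x := ⟨f⁻¹, hfodd, hfx, hfJ⟩
      have hc : k * (rt v)⁻¹ ∈ H := by
        rw [hHmem, Subgroup.coe_mul, Subgroup.coe_inv, hrtv]
        change J * ((k : G) * (v.1 ^ r v)⁻¹) = (k : G) * (v.1 ^ r v)⁻¹ * J
        have hvj : J * v.1 ^ r v * J⁻¹ = (v.1 ^ r v)⁻¹ := by rw [← conj_pow, v.2.2.2, inv_pow]
        have hsq : (v.1 ^ r v)⁻¹ * (v.1 ^ r v)⁻¹ = f := by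
          rw [← mul_inv_rev, hr v]; exact inv_inv f
        refine mul_inv_eq_iff_eq_mul.1 ?_
        calc J * ((k : G) * (v.1 ^ r v)⁻¹) * J⁻¹
            = (k : G) * f * (J * v.1 ^ r v * J⁻¹)⁻¹ := by rw [hfdef]; group
          _ = (k : G) * (v.1 ^ r v)⁻¹ := by rw [hvj, ← hsq]; group
      exact ⟨(v, ⟨⟨k * (rt v)⁻¹, hc⟩, mul_mem hk (inv_mem (hrtK v))⟩),
        Subtype.ext (inv_mul_cancel_right k (rt v))⟩
  rw [← hHcard, ← hc, ← Subgroup.card_mul_index K, hKi, key,
    ← Subgroup.card_mul_index (K.subgroupOf H), show (K.subgroupOf H).index = 4 from hrel]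
  ring

/-- The number of ordered pairs of distinct commuting involutions. -/
theorem card_commPairs (hP : IsKleinFour (P : Subgroup G)) (hF : Fpf P n 3) :
    Nat.card (CommPairs G) * Nat.card (Subgroup.centralizer ((P : Subgroup G) : Set G)) =
      2 * Nat.card G := by
  classical
  haveI : Fact (Nat.Prime 2) := ⟨Nat.prime_two⟩
  haveI : Nontrivial (P : Subgroup G) :=
    Finite.one_lt_card_iff_nontrivial.1 (by rw [hP.card_four]; norm_num)
  obtain ⟨⟨J, hJP⟩, hJ'⟩ := exists_ne (1 : (P : Subgroup G))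
  have hJ1 : J ≠ 1 := fun h => hJ' (Subtype.ext h)
  set y := n * J * n⁻¹ with hy
  have hyP : y ∈ (P : Subgroup G) := (Subgroup.mem_normalizer_iff.1 hF.mem J).1 hJP
  have hy1 : y ≠ 1 := by simpa [hy] using hJ1
  have hyJ : J ≠ y := fun h => by
    have := hF.fix J hJP hJ1 1 (by rw [pow_one]; exact h.symm)
    omega
  haveI : IsMulCommutative (P : Subgroup G) := IsKleinFour.isMulCommutative
  set w : Bool → G := fun b => if b then y else J * y with hw
  have hwP : ∀ b, w b ∈ (P : Subgroup G) := fun b => by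
    cases b <;> simp [hw, hyP, mul_mem hJP hyP]
  have hJy1 : J * y ≠ 1 := fun h => hyJ (by
    rw [mul_eq_one_iff_eq_inv.1 h, inv_eq_of_mul_eq_one_right
      (Involutions.KleinSylow.sq_eq_one hP hyP)])
  have hw1 : ∀ b, w b ≠ 1 := fun b => by cases b <;> simp [hw, hy1, hJy1]
  have hwJ : ∀ b, J ≠ w b := fun b => by cases b <;> simp [hw, hyJ, hy1]
  have hmem : ∀ (g : G) (b : Bool), orderOf (g * J * g⁻¹) = 2 ∧ orderOf (g * w b * g⁻¹) = 2 ∧
      Commute (g * J * g⁻¹) (g * w b * g⁻¹) ∧ g * J * g⁻¹ ≠ g * w b * g⁻¹ := fun g b => by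
    refine ⟨?_, ?_, ?_, fun h => hwJ b (mul_left_cancel (mul_right_cancel h))⟩
    · rw [orderOf_conj_eq, Involutions.KleinSylow.orderOf_mem hP hJP hJ1]
    · rw [orderOf_conj_eq, Involutions.KleinSylow.orderOf_mem hP (hwP b) (hw1 b)]
    · exact (Commute.map (f := (MulAut.conj g).toMonoidHom) (setLike_mul_comm hJP (hwP b)) : _)
  set Φ : G × Bool → CommPairs G := fun gb =>
    ⟨(gb.1 * J * gb.1⁻¹, gb.1 * w gb.2 * gb.1⁻¹), hmem gb.1 gb.2⟩
  have hsurj : Function.Surjective Φ := by
    rintro ⟨⟨a, x⟩, ha, hx, hax, hne⟩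
    obtain ⟨Q, hQ⟩ : ∃ Q : Sylow 2 G,
        Subgroup.zpowers a ⊔ Subgroup.zpowers x ≤ (Q : Subgroup G) := by
      refine (IsPGroup.to_sup_of_normal_right' (IsPGroup.of_card (n := 1) ?_)
        (IsPGroup.of_card (n := 1) ?_) ?_).exists_le_sylow
      · rw [Nat.card_zpowers, ha, pow_one]
      · rw [Nat.card_zpowers, hx, pow_one]
      · refine le_trans ?_ (Subgroup.centralizer_le_normalizer _)
        rw [Subgroup.zpowers_le, Subgroup.mem_centralizer_iff]
        rintro _ ⟨i, rfl⟩
        exact (hax.zpow_right i).eq.symm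
    obtain ⟨c, hc⟩ := MulAction.exists_smul_eq G Q P
    have hin : ∀ g ∈ (Q : Subgroup G), c * g * c⁻¹ ∈ (P : Subgroup G) := fun g hg => by
      rw [← hc, Sylow.coe_subgroup_smul]
      simpa using Subgroup.smul_mem_pointwise_smul (a := MulAut.conj c) g (Q : Subgroup G) hg
    have haP := hin a (hQ (Subgroup.mem_sup_left (Subgroup.mem_zpowers a)))
    have hxP := hin x (hQ (Subgroup.mem_sup_right (Subgroup.mem_zpowers x)))
    obtain ⟨i, hi⟩ := hF.fus _ haP J hJP (isConj_involution hP hF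
      ((orderOf_conj_eq c a).trans ha) (Involutions.KleinSylow.orderOf_mem hP hJP hJ1))
    set g := n ^ (i : ℕ) * c with hg
    have ea : g * a * g⁻¹ = J := by rw [← hi, hg]; group
    have hxg : g * x * g⁻¹ ∈ (P : Subgroup G) := by
      rw [show g * x * g⁻¹ = n ^ (i : ℕ) * (c * x * c⁻¹) * (n ^ (i : ℕ))⁻¹ by rw [hg]; group]
      exact (Subgroup.mem_normalizer_iff.1 (pow_mem hF.mem i) _).1 hxP
    obtain ⟨b, hb⟩ : ∃ b, g * x * g⁻¹ = w b := by
      rcases eq_or_ne (g * x * g⁻¹) y with h | h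
      · exact ⟨true, by simpa [hw] using h⟩
      refine ⟨false, ?_⟩
      have := congrArg Subtype.val (IsKleinFour.eq_mul_of_ne_all
        (x := (⟨J, hJP⟩ : (P : Subgroup G))) (y := ⟨y, hyP⟩) (z := ⟨_, hxg⟩) (by simpa using hJ1)
        (by simpa using hy1) (by simpa using hyJ) (by simpa using invol_ne_one hx)
        (by
          intro h'
          have h'' : g * x * g⁻¹ = g * a * g⁻¹ := (congrArg Subtype.val h').trans ea.symm
          exact hne (mul_left_cancel (mul_right_cancel h'')).symm)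
        (by simpa using h))
      simpa [hw] using this
    refine ⟨(g⁻¹, b), Subtype.ext (Prod.ext ?_ ?_)⟩
    · change g⁻¹ * J * g⁻¹⁻¹ = a
      rw [← ea]; group
    · change g⁻¹ * w b * g⁻¹⁻¹ = x
      rw [← hb]; group
  haveI := Fintype.ofFinite (CommPairs G)
  rw [show 2 * Nat.card G = Nat.card (G × Bool) by rw [Nat.card_prod]; simp [mul_comm],
    ← Nat.card_congr (Equiv.sigmaFiberEquiv Φ), Nat.card_sigma, Finset.sum_congr rfl
      (g := fun _ => Nat.card (Subgroup.centralizer ((P : Subgroup G) : Set G))) fun t _ => ?_,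
    Finset.sum_const, Finset.card_univ, Nat.card_eq_fintype_card (α := CommPairs G), smul_eq_mul]
  obtain ⟨⟨g₀, b₀⟩, rfl⟩ := hsurj t
  symm
  refine Nat.card_eq_of_bijective (fun c => ⟨(g₀ * c.1, b₀), ?_⟩) ⟨?_, ?_⟩
  · have h1 := Subgroup.mem_centralizer_iff.1 c.2 J hJP
    have h2 := Subgroup.mem_centralizer_iff.1 c.2 (w b₀) (hwP b₀)
    refine Subtype.ext (Prod.ext ?_ ?_)
    · change g₀ * c.1 * J * (g₀ * c.1)⁻¹ = g₀ * J * g₀⁻¹
      rw [mul_assoc g₀ _ J, ← h1]; group
    · change g₀ * c.1 * w b₀ * (g₀ * c.1)⁻¹ = g₀ * w b₀ * g₀⁻¹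
      rw [mul_assoc g₀ _ (w b₀), ← h2]; group
  · intro c c' h
    have := congrArg (fun s => s.1.1) h
    exact Subtype.ext (mul_left_cancel this)
  · rintro ⟨⟨g, b⟩, hgb⟩
    have h1 : g * J * g⁻¹ = g₀ * J * g₀⁻¹ := congrArg (fun t => t.1.1) hgb
    have h2 : g * w b * g⁻¹ = g₀ * w b₀ * g₀⁻¹ := congrArg (fun t => t.1.2) hgb
    set c := g₀⁻¹ * g with hc
    have hcJ : c * J * c⁻¹ = J := by
      rw [show c * J * c⁻¹ = g₀⁻¹ * (g * J * g⁻¹) * g₀ by rw [hc]; group, h1]; group
    have hcw : c * w b * c⁻¹ = w b₀ := by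
      rw [show c * w b * c⁻¹ = g₀⁻¹ * (g * w b * g⁻¹) * g₀ by rw [hc]; group, h2]; group
    have hall : ∀ u ∈ (P : Subgroup G), ∀ b : Bool, u = 1 ∨ u = J ∨ u = w b ∨ u = J * w b := by
      intro u hu b
      by_cases e1 : u = 1
      · exact Or.inl e1
      by_cases e2 : u = J
      · exact Or.inr (Or.inl e2)
      by_cases e3 : u = w b
      · exact Or.inr (Or.inr (Or.inl e3))
      exact Or.inr (Or.inr (Or.inr (congrArg Subtype.val (IsKleinFour.eq_mul_of_ne_all
        (x := (⟨J, hJP⟩ : (P : Subgroup G))) (y := ⟨w b, hwP b⟩) (z := ⟨u, hu⟩)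
        (by simpa using hJ1) (by simpa using hw1 b) (by simpa using hwJ b) (by simpa using e1)
        (by simpa using e2) (by simpa using e3)))))
    have hcP : ∀ u ∈ (P : Subgroup G), c * u * c⁻¹ ∈ (P : Subgroup G) := by
      intro u hu
      rcases hall u hu b with rfl | rfl | rfl | rfl
      · simp
      · rw [hcJ]; exact hu
      · rw [hcw]; exact hwP b₀
      · rw [show c * (J * w b) * c⁻¹ = c * J * c⁻¹ * (c * w b * c⁻¹) by group, hcJ, hcw]
        exact mul_mem hJP (hwP b₀)
    have hcN : c ∈ Subgroup.normalizer ((P : Subgroup G) : Set G) :=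
      Subgroup.mem_normalizer_iff_map_conj_eq.2 <| Subgroup.eq_of_le_of_card_ge
        (by rintro _ ⟨u, hu, rfl⟩; exact hcP u hu)
        (by rw [Subgroup.card_map_of_injective (MulEquiv.injective _)])
    have hcC := hF.cen c hcN J hJP hJ1 (mul_inv_eq_iff_eq_mul.1 hcJ)
    rw [← Subgroup.mem_centralizer_iff.1 hcC (w b) (hwP b), mul_inv_cancel_right] at hcw
    obtain rfl : b = b₀ := by
      cases b <;> cases b₀ <;> simp_all [w]
    exact ⟨⟨c, hcC⟩, Subtype.ext (Prod.ext (mul_inv_cancel_left g₀ g) rfl)⟩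

/-- The count of pairs of involutions with product in the section of an involution. -/
theorem card_sectionPairs_mul (hP : IsKleinFour (P : Subgroup G)) (hF : Fpf P n 3) {J : G}
    (hJ : orderOf J = 2) :
    Nat.card (SectionPairs G) * Nat.card (Subgroup.centralizer ((P : Subgroup G) : Set G)) ^ 2 =
      2 * Nat.card G * Nat.card (Subgroup.centralizer ({J} : Set G)) := by
  classical
  haveI : Fact (Nat.Prime 2) := ⟨Nat.prime_two⟩
  haveI := Fintype.ofFinite (CommPairs G)
  set cP := Nat.card (Subgroup.centralizer ((P : Subgroup G) : Set G))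
  set c := Nat.card (Subgroup.centralizer ({J} : Set G))
  have hc : ∀ a : G, orderOf a = 2 → Nat.card (Subgroup.centralizer ({a} : Set G)) = c := by
    intro a ha
    have h1 := Involutions.Thompson.card_class_mul a
    have h2 := Involutions.Thompson.card_class_mul J
    have haJ := isConj_involution hP hF ha hJ
    rw [Nat.card_congr (Equiv.subtypeEquivRight fun u => ⟨fun h => haJ.symm.trans h,
      fun h => haJ.trans h⟩ : {u : G // IsConj a u} ≃ {u : G // IsConj J u}), ← h2] at h1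
    haveI : Nonempty {u : G // IsConj J u} := ⟨⟨J, IsConj.refl J⟩⟩
    exact Nat.eq_of_mul_eq_mul_left Nat.card_pos h1
  have hfib : ∀ t : CommPairs G, Nat.card (Inverted t.1.1 t.1.2) * cP = c := by
    rintro ⟨⟨a, x⟩, ha, hx, hax, hne⟩
    simp only
    obtain ⟨Q, hQ⟩ : ∃ Q : Sylow 2 G,
        Subgroup.zpowers a ⊔ Subgroup.zpowers x ≤ (Q : Subgroup G) := by
      refine (IsPGroup.to_sup_of_normal_right' (IsPGroup.of_card (n := 1) ?_)
        (IsPGroup.of_card (n := 1) ?_) ?_).exists_le_sylow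
      · rw [Nat.card_zpowers, ha, pow_one]
      · rw [Nat.card_zpowers, hx, pow_one]
      · refine le_trans ?_ (Subgroup.centralizer_le_normalizer _)
        rw [Subgroup.zpowers_le, Subgroup.mem_centralizer_iff]
        rintro _ ⟨i, rfl⟩
        exact (hax.zpow_right i).eq.symm
    obtain ⟨g, hg⟩ := MulAction.exists_smul_eq G Q P
    have hin : ∀ u ∈ (Q : Subgroup G), g * u * g⁻¹ ∈ (P : Subgroup G) := fun u hu => by
      rw [← hg, Sylow.coe_subgroup_smul]
      simpa using Subgroup.smul_mem_pointwise_smul (a := MulAut.conj g) u (Q : Subgroup G) hu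
    have haP := hin a (hQ (Subgroup.mem_sup_left (Subgroup.mem_zpowers a)))
    have hxP := hin x (hQ (Subgroup.mem_sup_right (Subgroup.mem_zpowers x)))
    rw [← card_inverted_conj g a x, ← hc (g * a * g⁻¹) ((orderOf_conj_eq g a).trans ha)]
    exact card_inverted hP hF haP hxP (fun h => invol_ne_one ha (by simpa using h))
      (fun h => invol_ne_one hx (by simpa using h))
      (fun h => hne (mul_left_cancel (mul_right_cancel h)))
  rw [card_sectionPairs, Nat.card_sigma, pow_two, ← mul_assoc, Finset.sum_mul,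
    Finset.sum_congr rfl fun t _ => hfib t, Finset.sum_const, Finset.card_univ, smul_eq_mul,
    ← Nat.card_eq_fintype_card, mul_right_comm, card_commPairs hP hF]

end Cfsg.Agent.Lib.KleinBlock
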